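import Groth.Agent.Lib.C1.Algebra
import Groth.Agent.Lib.CycPush.Curve

/-!
Orders of vanishing under open immersions of integral schemes.
-/

set_option autoImplicit false
universe u

open CategoryTheory AlgebraicGeometry

namespace GrothLib.OrdOpen

variable {U X : Scheme.{u}} [IsIntegral U] [IsIntegral X] (j : U ⟶ X) [IsOpenImmersion j]

theorem isIso_stalkSpecializes_of_eq {Y : Scheme.{u}} {a b : Y} (h : a ⤳ b) (e : a = b) :
    IsIso (Y.presheaf.stalkSpecializes h) := by
  subst e
  rw [TopCat.Presheaf.stalkSpecializes_refl]
  infer_instance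

/-- The isomorphism of function fields along an open immersion. -/
noncomputable def res : X.functionField ⟶ U.functionField :=
  X.presheaf.stalkSpecializes (specializes_of_eq (genericPoint_eq_of_isOpenImmersion j)) ≫
    j.stalkMap (genericPoint U)

instance : IsIso (res j) := by
  haveI := isIso_stalkSpecializes_of_eq (Y := X)
    (specializes_of_eq (genericPoint_eq_of_isOpenImmersion j)) (genericPoint_eq_of_isOpenImmersion j)
  unfold res
  infer_instance

theorem res_bijective : Function.Bijective (res j).hom :=
  ConcreteCategory.bijective_of_isIso (res j)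

theorem coheight_eq (u : U) : Order.coheight (j u) = Order.coheight u :=
  j.isOpenEmbedding.coheight_eq

theorem ord_res [IsLocallyNoetherian X] [IsLocallyNoetherian U] (f : X.functionField) (u : U) :
    Scheme.ord ((res j).hom f) u = Scheme.ord f (j u) := by
  by_cases hu : Order.coheight u = 1
  swap
  · rw [Scheme.ord_eq_zero_of_coheight_neq_one hu,
      Scheme.ord_eq_zero_of_coheight_neq_one ((coheight_eq j u).symm ▸ hu)]
  rcases eq_or_ne f 0 with rfl | hf
  · simp
  have hju : Order.coheight (j u) = 1 := (coheight_eq j u).trans hu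
  haveI : Ring.KrullDimLE 1 (X.presheaf.stalk (j u)) := krullDimLE_of_coheight_le hju.le
  haveI : Ring.KrullDimLE 1 (U.presheaf.stalk u) := krullDimLE_of_coheight_le hu.le
  rw [← CycPush.ordFrac_stalk hju hf,
    ← CycPush.ordFrac_stalk hu ((map_ne_zero_iff _ (res_bijective j).injective).2 hf)]
  refine C1.ordFrac_congr (RingEquiv.ofBijective (j.stalkMap u).hom
    (ConcreteCategory.bijective_of_isIso (j.stalkMap u))) (res j).hom (fun r => ?_) f
  show (X.presheaf.stalkSpecializes _ ≫ res j).hom r = (j.stalkMap u ≫ U.presheaf.stalkSpecializes _).hom r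
  congr 2
  rw [res, TopCat.Presheaf.stalkSpecializes_comp_assoc, ← Scheme.Hom.stalkSpecializes_stalkMap]

end GrothLib.OrdOpen
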